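import Cfsg.Agent.H35.Fi24T.Y5V2.RTab0

set_option autoImplicit false
set_option linter.all false

namespace Cfsg.Agent.H35

open Cfsg.Spor

noncomputable def y5v2_rrowT : ℕ → ℕ := y5v2_rrowT_c0

noncomputable def y5v2_circT_c0 : ℕ → List Fi24.Gen := (nd 32 (nd 16 (nd 8 (nd 4 (nd 2 (nd 1 (lf [.g]) (lf [.j])) (nd 3 (lf [.i]) (lf [.b, .k, .b, .k]))) (nd 6 (nd 5 (lf [.c, .k, .c, .k]) (lf [.d, .k, .d, .k])) (nd 7 (lf [.e, .k, .e, .k]) (lf [.f, .k, .f, .k])))) (nd 12 (nd 10 (nd 9 (lf [.h, .k, .h, .k]) (lf [.k, .l, .k, .l, .k, .l])) (nd 11 (lf [.b, .l, .b, .l]) (lf [.c, .l, .c, .l]))) (nd 14 (nd 13 (lf [.d, .l, .d, .l]) (lf [.e, .l, .e, .l])) (nd 15 (lf [.f, .l, .f, .l]) (lf [.h, .l, .h, .l]))))) (nd 24 (nd 20 (nd 18 (nd 17 (lf [.k, .a, .k, .a, .k, .a]) (lf [.c, .a, .c, .a])) (nd 19 (lf [.d, .a, .d, .a]) (lf [.e, .a, .e, .a]))) (nd 22 (nd 21 (lf [.f, .a, .f, .a]) (lf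 [.h, .a, .h, .a])) (nd 23 (lf [.l, .a, .l, .a]) (lf [.l, .l])))) (nd 28 (nd 26 (nd 25 (lf [.k, .b, .k, .b]) (lf [.a, .b, .a, .b, .a, .b])) (nd 27 (lf [.d, .b, .d, .b]) (lf [.e, .b, .e, .b]))) (nd 30 (nd 29 (lf [.f, .b, .f, .b]) (lf [.h, .b, .h, .b])) (nd 31 (lf [.l, .k, .l, .k, .l, .k]) (lf [.a, .k, .a, .k, .a, .k])))))) (nd 48 (nd 40 (nd 36 (nd 34 (nd 33 (lf [.l, .b, .l, .b]) (lf [.k, .c, .k, .c])) (nd 35 (lf [.a, .c, .a, .c]) (lf [.b, .c, .b, .c, .b, .c]))) (nd 38 (nd 37 (lf [.e, .c, .e, .c]) (lf [.f, .c, .f, .c])) (nd 39 (lf [.h, .c, .h, .c]) (lf [.k, .k])))) (nd 44 (nd 42 (nd 41 (lf [.l, .c, .l, .c]) (lf [.k, .d, .k, .d])) (nd 43 (lf [.a, .d, .a, .d]) (lf [.b, .d, .b, .d]))) (nd 46 (nd 45 (lf [.c, .d, .c, .d, .c, .d]) (lf [.f, .d, .f, .d])) (nd 47 (lf [.b, .a, .b, .a, .b, .a]) (lf [.l, .d, .l, .d]))))) (nd 56 (nd 52 (nd 50 (nd 49 (lf [.k, .e, .k, .e]) (lf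 [.a, .e, .a, .e])) (nd 51 (lf [.b, .e, .b, .e]) (lf [.c, .e, .c, .e]))) (nd 54 (nd 53 (lf [.d, .e, .d, .e, .d, .e]) (lf [.k, .h, .k, .h])) (nd 55 (lf [.a, .h, .a, .h]) (lf [.b, .h, .b, .h])))) (nd 60 (nd 58 (nd 57 (lf [.c, .h, .c, .h]) (lf [.d, .h, .d, .h, .d, .h])) (nd 59 (lf [.f, .h, .f, .h]) (lf [.a, .a]))) (nd 62 (nd 61 (lf [.l, .e, .l, .e]) (lf [.l, .h, .l, .h])) (nd 63 (lf [.k, .f, .k, .f]) (lf [.a, .f, .a, .f])))))))
noncomputable def y5v2_circT_c1 : ℕ → List Fi24.Gen := (nd 74 (nd 69 (nd 66 (nd 65 (lf [.b, .f, .b, .f]) (lf [.c, .f, .c, .f])) (nd 67 (lf [.d, .f, .d, .f]) (nd 68 (lf [.e, .f, .e, .f, .e, .f]) (lf [.e, .h, .e, .h])))) (nd 71 (nd 70 (lf [.e, .e]) (lf [.c, .b, .c, .b, .c, .b])) (nd 72 (lf [.l, .f, .l, .f]) (nd 73 (lf [.f, .f]) (lf [.e, .d, .e, .d, .e, .d]))))) (nd 79 (nd 76 (nd 75 (lf [.h, .d, .h, .d, .h, .d]) (lf [.b, .b])) (nd 77 (lf [.d,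 .c, .d, .c, .d, .c]) (nd 78 (lf [.f, .e, .f, .e, .f, .e]) (lf [.h, .e, .h, .e])))) (nd 82 (nd 80 (lf [.c, .c]) (nd 81 (lf [.d, .d]) (lf [.a, .l, .a, .l]))) (nd 83 (lf [.h, .h]) (nd 84 (lf [.h, .f, .h, .f]) (lf [.c, .b, .a, .h, .f, .e, .d, .c, .b, .a, .h, .f, .e, .d, .c, .b, .a, .h, .f, .e, .d, .c, .b, .a, .h, .f, .e, .d, .c, .b, .a, .h, .f, .e, .d, .c, .b, .a, .h, .f, .e, .d, .c, .b, .a, .h, .f, .e, .d, .c, .b, .a, .h, .f, .e, .d, .c, .b, .a, .l, .h, .f, .e, .d]))))))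
noncomputable def y5v2_circT : ℕ → List Fi24.Gen := (nd 64 y5v2_circT_c0 y5v2_circT_c1)
def y5v2_ccert : List (ℕ × ℕ × Bool) := [(82, 0, false), (83, 0, false), (84, 0, false), (12, 1, false), (13, 1, false), (14, 1, false), (15, 1, false), (16, 1, false), (17, 1, false), (1, 1, false), (3, 1, false), (4, 1, false), (5, 1, false), (6, 1, false), (7, 1, false), (8, 1, false), (11, 0, false), (22, 1, false), (23, 1, false), (24, 1, false), (25, 1, false), (26, 1, false), (2, 0, false), (0, 0, false), (12, 0, false), (21, 0, false), (32, 1, false), (33, 1, false), (34, 1, false), (35, 1, false), (1, 0, false), (11, 1, false), (3, 0, false), (13, 0, false), (22, 0, false), (31, 0, false), (42, 1, false), (43, 1, false), (44, 1, false), (10, 0, false), (4, 0, false), (14, 0, false), (23, 0, false), (32, 0, false), (41, 0, false), (52, 1, false), (21, 1, false), (5,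 0, false), (15, 0, false), (24, 0, false), (33, 0, false), (42, 0, false), (51, 0, false), (17, 0, false), (26, 0, false), (35, 0, false), (44, 0, false), (53, 0, false), (71, 0, false), (20, 0, false), (6, 0, false), (8, 0, false), (16, 0, false), (25, 0, false), (34, 0, false), (43, 0, false), (52, 0, false), (61, 0, false), (62, 0, false), (60, 0, false), (31, 1, false), (7, 0, false), (70, 0, false), (51, 1, false), (53, 1, false), (30, 0, false), (41, 1, false), (61, 1, false), (62, 1, false), (40, 0, false), (50, 0, false), (2, 1, false), (80, 0, false), (71, 1, false), (81, 5, false)]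
noncomputable def y5v2_hc1T_c0 : ℕ → List Fi24.Gen := (nd 4 (nd 2 (nd 1 (lf [.l]) (lf [.a])) (nd 3 (lf [.b]) (lf [.c]))) (nd 6 (nd 5 (lf [.d]) (lf [.e])) (nd 7 (lf [.f]) (lf [.h]))))
noncomputable def y5v2_hc1T : ℕ → List Fi24.Gen := y5v2_hc1T_c0
noncomputable def y5v2_hc2T_c0 : ℕ → List Fi24.Gen := (nd 4 (nd 2 (nd 1 (lf []) (lf [])) (nd 3 (lf []) (lf []))) (nd 6 (nd 5 (lf []) (lf [])) (nd 7 (lf []) (lf []))))
noncomputable def y5v2_hc2T : ℕ → List Fi24.Gen := y5v2_hc2T_c0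

noncomputable def y5v2_rd : RData Fi24.Gen := ⟨wrapRow 149 y5v2_rrowT, 149, 120, fi24_gi, fi24_gof, fi24_gens, circTab 85 y5v2_circT, circTab 8 y5v2_hc1T, circTab 8 y5v2_hc2T, 2⟩
noncomputable def y5v2_rf (p : ℕ) : Bool := y5v2_rd.chk p
def y5v2_rsw : List (List Fi24.Gen) := [[.l], [.a], [.b], [.c], [.d], [.e], [.f], [.h]]

end Cfsg.Agent.H35
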